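import Cfsg.Prelude.Def_KGroupFacts
import Mathlib.GroupTheory.SemidirectProduct
import Mathlib.GroupTheory.Coset.Basic
import Mathlib.GroupTheory.GroupAction.Quotient
import Mathlib.GroupTheory.QuotientGroup.Basic
import Mathlib.Data.Fintype.Quotient
import Mathlib.Algebra.BigOperators.Pi
import Mathlib.Tactic.Group

/-!
# Central extensions by transfer from a subgroup

A central extension `π : E →* G` of a subgroup `B = π.range` induces a central extension of `G`
with the same kernel, built on the functions from `G ⧸ B` to `E`; it restricts to the given one on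
subgroups of `B` for which the chosen representatives carry no cocycle away from the base point.
-/

set_option autoImplicit false

open scoped commutatorElement

namespace CfsgLib.SuzukiEight

universe u

section

variable {Ω E G : Type*} [Group E] [Group G] [MulAction G Ω]

/-- translation of functions, as automorphisms of the product group -/
def shift : G →* MulAut (Ω → E) where
  toFun g :=
    { toFun := fun f ω => f (g⁻¹ • ω)
      invFun := fun f ω => f (g • ω)
      left_inv := fun f => funext fun ω => by simp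
      right_inv := fun f => funext fun ω => by simp
      map_mul' := fun _ _ => rfl }
  map_one' := MulEquiv.ext fun f => funext fun ω => by simp
  map_mul' g h := MulEquiv.ext fun f => funext fun ω => by simp [mul_smul]

@[simp] theorem shift_apply (g : G) (f : Ω → E) (ω : Ω) : shift g f ω = f (g⁻¹ • ω) := rfl

end

variable {G E : Type u} [Group G] [Group E] (π : E →* G)

local notation "Ω" => G ⧸ π.range

/-- the transfer group attached to representatives `t` -/
def transferGroup (t : G ⧸ π.range → G) : Subgroup ((Ω → E) ⋊[shift] G) where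
  carrier := {p | ∀ ω, π (p.left ω) = (t ω)⁻¹ * p.right * t (p.right⁻¹ • ω)}
  one_mem' := fun ω => by simp
  mul_mem' := by
    intro p q hp hq ω
    simp only [SemidirectProduct.mul_left, SemidirectProduct.mul_right, Pi.mul_apply, shift_apply,
      map_mul, hp ω, hq (p.right⁻¹ • ω), mul_inv_rev, mul_smul]
    group
  inv_mem' := by
    intro p hp ω
    simp only [SemidirectProduct.inv_left, SemidirectProduct.inv_right, shift_apply, Pi.inv_apply,
      inv_inv]
    rw [map_inv, hp (p.right • ω), inv_smul_smul]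
    simp only [mul_inv_rev, inv_inv, mul_assoc]

/-- A central extension `π : E →* G` of a subgroup, whose kernel consists of commutators of
elements over a set `U` that fixes the representatives away from the base point, gives a stem
extension of `G` with the same kernel. -/
theorem exists_stem_of_transfer [Finite G] [Finite E] (hK : π.ker ≤ Subgroup.center E)
    (t : G ⧸ π.range → G) (htmk : ∀ ω, QuotientGroup.mk (t ω) = ω)
    (ht1 : t (QuotientGroup.mk 1) = 1) (U : Subgroup G) (hU : U ≤ π.range)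
    (htU : ∀ u ∈ U, ∀ ω, ω ≠ QuotientGroup.mk 1 → (t (u • ω))⁻¹ * u * t ω = 1)
    (hgen : ∀ k ∈ π.ker, ∃ e₁ e₂, π e₁ ∈ U ∧ π e₂ ∈ U ∧ k = ⁅e₁, e₂⁆) :
    ∃ (Γ : Type u) (_ : Group Γ) (_ : Finite Γ) (σ : Γ →* G),
      Cfsg.IsStemExtension σ ∧ Nonempty (σ.ker ≃* π.ker) := by
  classical
  letI : CommGroup ↥π.ker :=
    { (inferInstance : Group ↥π.ker) with
      mul_comm := fun a b => Subtype.ext ((Subgroup.mem_center_iff.mp (hK b.2) a)) }
  letI : Fintype (Ω) := Fintype.ofFinite _
  set o : Ω := QuotientGroup.mk 1 with ho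
  set M := transferGroup π t with hM
  have hmemM : ∀ p : (Ω → E) ⋊[shift] G,
      p ∈ M ↔ ∀ ω, π (p.left ω) = (t ω)⁻¹ * p.right * t (p.right⁻¹ • ω) := fun _ => Iff.rfl
  have hcomm : ∀ k : ↥π.ker, ∀ e : E, e * (k : E) = k * e := fun k e =>
    Subgroup.mem_center_iff.mp (hK k.2) e
  -- the kernel of `M → G`
  let j : (Ω → ↥π.ker) →* ↥M :=
    { toFun := fun f => ⟨⟨fun ω => (f ω : E), 1⟩, fun ω => by
        simp [MonoidHom.mem_ker.1 (f ω).2]⟩
      map_one' := Subtype.ext (SemidirectProduct.ext (funext fun ω => by simp) rfl)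
      map_mul' := fun f f' => Subtype.ext (SemidirectProduct.ext (funext fun ω => by simp) (by simp)) }
  let Pr : (Ω → ↥π.ker) →* ↥π.ker :=
    { toFun := fun f => ∏ ω, f ω
      map_one' := by simp
      map_mul' := fun f f' => Finset.prod_mul_distrib }
  have hjinj : Function.Injective j := fun f f' h => funext fun ω => Subtype.ext
    (congrFun (congrArg SemidirectProduct.left (congrArg Subtype.val h)) ω)
  have hconj : ∀ (p : ↥M) (f : Ω → ↥π.ker),
      p * j f * p⁻¹ = j (fun ω => f ((p : (Ω → E) ⋊[shift] G).right⁻¹ • ω)) := by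
    intro p f
    refine mul_inv_eq_iff_eq_mul.2 (Subtype.ext (SemidirectProduct.ext (funext fun ω => ?_) ?_))
    · simp [j, hcomm]
    · simp [j]
  have hPr : ∀ (g : G) (f : Ω → ↥π.ker), Pr (fun ω => f (g⁻¹ • ω)) = Pr f := fun g f =>
    Fintype.prod_equiv (MulAction.toPerm g⁻¹) _ _ fun ω => rfl
  let N₀ : Subgroup ↥M := Pr.ker.map j
  haveI : N₀.Normal := ⟨by
    rintro _ ⟨f, hf, rfl⟩ p
    refine ⟨_, ?_, (hconj p f).symm⟩
    rw [SetLike.mem_coe, MonoidHom.mem_ker, hPr]
    exact hf⟩
  let ρ : ↥M →* G := SemidirectProduct.rightHom.comp M.subtype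
  have hρj : ∀ f, ρ (j f) = 1 := fun f => rfl
  have hN₀ρ : N₀ ≤ ρ.ker := by
    rintro _ ⟨f, -, rfl⟩
    exact MonoidHom.mem_ker.2 (hρj f)
  let σ : ↥M ⧸ N₀ →* G := QuotientGroup.lift N₀ ρ hN₀ρ
  have hσmk : ∀ p, σ (QuotientGroup.mk' N₀ p) = ρ p := fun p => rfl
  -- the kernel of `σ`
  let ι : ↥π.ker →* ↥M ⧸ N₀ :=
    (QuotientGroup.mk' N₀).comp (j.comp (MonoidHom.mulSingle (fun _ : Ω => ↥π.ker) o))
  have hιval : ∀ f, QuotientGroup.mk' N₀ (j f) = ι (Pr f) := by
    intro f
    refine (QuotientGroup.mk'_eq_mk' N₀).2 ⟨j (f⁻¹ * Pi.mulSingle o (Pr f)), ⟨_, ?_, rfl⟩, ?_⟩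
    · rw [SetLike.mem_coe, MonoidHom.mem_ker, map_mul, map_inv]
      show (Pr f)⁻¹ * (∏ ω, Pi.mulSingle o (Pr f) ω) = 1
      rw [Finset.prod_pi_mulSingle', if_pos (Finset.mem_univ o), inv_mul_cancel]
    · rw [← map_mul, mul_inv_cancel_left]
      rfl
  have hιinj : Function.Injective ι := by
    rw [injective_iff_map_eq_one]
    intro k hk
    obtain ⟨f, hf, hjf⟩ := (QuotientGroup.eq_one_iff _).1 hk
    rw [hjinj hjf, SetLike.mem_coe, MonoidHom.mem_ker] at hf
    change (∏ ω, Pi.mulSingle o k ω) = 1 at hf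
    rwa [Finset.prod_pi_mulSingle', if_pos (Finset.mem_univ o)] at hf
  have hker : σ.ker = ι.range := by
    ext x
    obtain ⟨p, rfl⟩ := QuotientGroup.mk'_surjective N₀ x
    constructor
    · intro hx
      have hr : (p : (Ω → E) ⋊[shift] G).right = 1 := MonoidHom.mem_ker.1 hx
      let f : Ω → ↥π.ker := fun ω => ⟨(p : (Ω → E) ⋊[shift] G).left ω, by
        rw [MonoidHom.mem_ker, (hmemM _).1 p.2 ω, hr]; simp⟩
      have hp : p = j f := Subtype.ext (SemidirectProduct.ext rfl hr)
      exact ⟨Pr f, by rw [← hιval, ← hp]⟩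
    · rintro ⟨k, hk⟩
      rw [← hk]
      exact MonoidHom.mem_ker.2 rfl
  -- surjectivity
  have hsur : Function.Surjective σ := by
    intro g
    have hex : ∀ ω : Ω, ∃ e, π e = (t ω)⁻¹ * g * t (g⁻¹ • ω) := fun ω => by
      have h1 : (QuotientGroup.mk (t ω) : Ω) = QuotientGroup.mk (g * t (g⁻¹ • ω)) := by
        rw [htmk, ← smul_eq_mul, ← MulAction.Quotient.smul_mk, htmk, smul_inv_smul]
      have h2 := QuotientGroup.eq.1 h1
      rw [← mul_assoc] at h2
      exact h2
    choose e he using hex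
    exact ⟨QuotientGroup.mk' N₀ ⟨⟨e, g⟩, he⟩, rfl⟩
  -- lifts of the subgroup `U`
  have hfix : ∀ u ∈ U, u • o = o := fun u hu => by
    rw [ho, MulAction.Quotient.smul_mk, QuotientGroup.eq]
    simpa using hU hu
  let L : ↥(U.comap π) →* ↥M :=
    { toFun := fun e => ⟨⟨Pi.mulSingle o (e : E), π e⟩, fun ω => by
        have hi : (π (e : E))⁻¹ • o = o := hfix _ (inv_mem e.2)
        rcases eq_or_ne ω o with rfl | hω
        · simp [hi, ht1]
        · have hne : (π (e : E))⁻¹ • ω ≠ o := fun h => hω (by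
            rw [inv_smul_eq_iff.1 h, hfix _ e.2])
          have := htU _ e.2 _ hne
          rw [smul_inv_smul] at this
          simp [Pi.mulSingle_eq_of_ne hω, this]⟩
      map_one' := Subtype.ext (SemidirectProduct.ext (by simp) (by simp))
      map_mul' := fun a b => Subtype.ext (SemidirectProduct.ext (funext fun ω => by
        have hi : (π (a : E))⁻¹ • o = o := hfix _ (inv_mem a.2)
        rcases eq_or_ne ω o with rfl | hω
        · simp [hi]
        · have hne : (π (a : E))⁻¹ • ω ≠ o := fun h => hω (by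
            rw [inv_smul_eq_iff.1 h, hfix _ a.2])
          simp [Pi.mulSingle_eq_of_ne hω, Pi.mulSingle_eq_of_ne hne]) (by simp)) }
  refine ⟨↥M ⧸ N₀, inferInstance, ?_, σ, ⟨hsur, ?_, ?_⟩, ⟨?_⟩⟩
  · haveI : Finite ((Ω → E) ⋊[shift] G) := Finite.of_equiv _ SemidirectProduct.equivProd.symm
    infer_instance
  · rw [hker]
    rintro _ ⟨k, rfl⟩
    rw [Subgroup.mem_center_iff]
    intro x
    obtain ⟨p, rfl⟩ := QuotientGroup.mk'_surjective N₀ x
    refine mul_inv_eq_iff_eq_mul.1 ?_
    show QuotientGroup.mk' N₀ p * QuotientGroup.mk' N₀ (j (Pi.mulSingle o k)) *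
      (QuotientGroup.mk' N₀ p)⁻¹ = QuotientGroup.mk' N₀ (j (Pi.mulSingle o k))
    rw [← map_mul, ← map_inv, ← map_mul, hconj, hιval, hιval, hPr]
  · rw [hker]
    rintro _ ⟨k, rfl⟩
    obtain ⟨e₁, e₂, h₁, h₂, hk⟩ := hgen k k.2
    have hmk : ι k = QuotientGroup.mk' N₀ ⁅L ⟨e₁, h₁⟩, L ⟨e₂, h₂⟩⁆ := by
      rw [← map_commutatorElement L]
      refine congrArg (QuotientGroup.mk' N₀) (Subtype.ext (SemidirectProduct.ext ?_ ?_))
      · show (fun ω => ((Pi.mulSingle o k : Ω → ↥π.ker) ω : E)) = Pi.mulSingle o ⁅e₁, e₂⁆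
        funext ω
        rcases eq_or_ne ω o with rfl | hω
        · simp [hk]
        · simp [Pi.mulSingle_eq_of_ne hω]
      · show (1 : G) = π ⁅e₁, e₂⁆
        rw [← hk, MonoidHom.mem_ker.1 k.2]
    rw [hmk, map_commutatorElement]
    exact Subgroup.commutator_mem_commutator (Subgroup.mem_top _) (Subgroup.mem_top _)
  · exact ((MonoidHom.ofInjective hιinj).trans (MulEquiv.subgroupCongr hker.symm)).symm

end CfsgLib.SuzukiEight
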