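import Cfsg.Agent.Lib.SuzukiEight.Upper
import Cfsg.Agent.Lib.SuzukiEight.Transfer

/-!
# A stem extension of `Sz(8)` by a four-group

The Borel subgroup of `Sz(8)` has a central extension by a four-group given by the cocycle
`ψ(b⁴ a' + a⁴ b'²)` on its unipotent radical, invariant under the torus; transferring it to `Sz(8)`
gives a stem extension.
-/

set_option autoImplicit false
set_option linter.unusedSectionVars false

open scoped MatrixGroups Matrix commutatorElement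

namespace CfsgLib.SuzukiEight

open Cfsg.Lie CfsgLib.SuzukiGroup

universe u

variable {F : Type u} [Field F] [Fintype F] [CharP F 2]

/-- the elements of the extended unipotent group -/
@[ext]
structure CoverUnip (h8 : ∀ x : F, x ^ 8 = x) (ψ : F →+ ZMod 2 × ZMod 2) : Type u where
  /-- first coordinate -/
  fst : F
  /-- second coordinate -/
  snd : F
  /-- central coordinate -/
  cen : ZMod 2 × ZMod 2

variable {h8 : ∀ x : F, x ^ 8 = x} {ψ : F →+ ZMod 2 × ZMod 2}

omit [Fintype F] in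
theorem add_pow_four (x y : F) : (x + y) ^ 4 = x ^ 4 + y ^ 4 := by
  linear_combination (2 * x ^ 3 * y + 3 * x ^ 2 * y ^ 2 + 2 * x * y ^ 3) * (CharTwo.two_eq_zero (R := F))

omit [Fintype F] in
theorem add_pow_two' (x y : F) : (x + y) ^ 2 = x ^ 2 + y ^ 2 := by
  linear_combination (x * y) * (CharTwo.two_eq_zero (R := F))

instance : Group (CoverUnip h8 ψ) where
  mul p q := ⟨p.fst + q.fst, p.snd + q.snd + p.fst * q.fst ^ 4,
    p.cen + q.cen + ψ (p.snd ^ 4 * q.fst + p.fst ^ 4 * q.snd ^ 2)⟩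
  one := ⟨0, 0, 0⟩
  inv p := ⟨p.fst, p.snd + p.fst * p.fst ^ 4,
    -(p.cen + ψ ((p.snd + p.fst * p.fst ^ 4) ^ 4 * p.fst + p.fst ^ 4 * p.snd ^ 2))⟩
  mul_assoc p q r := by
    apply CoverUnip.ext
    · exact add_assoc _ _ _
    · show p.snd + q.snd + p.fst * q.fst ^ 4 + r.snd + (p.fst + q.fst) * r.fst ^ 4 =
        p.snd + (q.snd + r.snd + q.fst * r.fst ^ 4) + p.fst * (q.fst + r.fst) ^ 4
      rw [add_pow_four]; ring
    · show p.cen + q.cen + ψ (p.snd ^ 4 * q.fst + p.fst ^ 4 * q.snd ^ 2) + r.cen +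
          ψ ((p.snd + q.snd + p.fst * q.fst ^ 4) ^ 4 * r.fst + (p.fst + q.fst) ^ 4 * r.snd ^ 2) =
        p.cen + (q.cen + r.cen + ψ (q.snd ^ 4 * r.fst + q.fst ^ 4 * r.snd ^ 2)) +
          ψ (p.snd ^ 4 * (q.fst + r.fst) + p.fst ^ 4 * (q.snd + r.snd + q.fst * r.fst ^ 4) ^ 2)
      have e : p.snd ^ 4 * q.fst + p.fst ^ 4 * q.snd ^ 2 +
          ((p.snd + q.snd + p.fst * q.fst ^ 4) ^ 4 * r.fst + (p.fst + q.fst) ^ 4 * r.snd ^ 2) =
          q.snd ^ 4 * r.fst + q.fst ^ 4 * r.snd ^ 2 +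
          (p.snd ^ 4 * (q.fst + r.fst) + p.fst ^ 4 * (q.snd + r.snd + q.fst * r.fst ^ 4) ^ 2) := by
        simp only [add_pow_four, add_pow_two']
        linear_combination (p.fst ^ 4 * r.fst) * (q.fst ^ 8 + q.fst) * h8 q.fst -
          p.fst ^ 4 * q.fst ^ 2 * h8 r.fst
      have key : ∀ {x y z w : F}, x + y = z + w → ψ x + ψ y = ψ z + ψ w := fun h => by
        rw [← map_add, ← map_add, h]
      linear_combination key e
  one_mul p := by
    apply CoverUnip.ext
    · exact zero_add _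
    · show 0 + p.snd + 0 * p.fst ^ 4 = p.snd
      ring
    · show 0 + p.cen + ψ (0 ^ 4 * p.fst + 0 ^ 4 * p.snd ^ 2) = p.cen
      simp
  mul_one p := by
    apply CoverUnip.ext
    · exact add_zero _
    · show p.snd + 0 + p.fst * 0 ^ 4 = p.snd
      ring
    · show p.cen + 0 + ψ (p.snd ^ 4 * 0 + p.fst ^ 4 * 0 ^ 2) = p.cen
      simp
  inv_mul_cancel p := by
    apply CoverUnip.ext
    · exact CharTwo.add_self_eq_zero _
    · show p.snd + p.fst * p.fst ^ 4 + p.snd + p.fst * p.fst ^ 4 = 0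
      linear_combination (p.snd + p.fst * p.fst ^ 4) * (CharTwo.two_eq_zero (R := F))
    · show -(p.cen + ψ ((p.snd + p.fst * p.fst ^ 4) ^ 4 * p.fst + p.fst ^ 4 * p.snd ^ 2)) + p.cen +
        ψ ((p.snd + p.fst * p.fst ^ 4) ^ 4 * p.fst + p.fst ^ 4 * p.snd ^ 2) = 0
      abel

theorem coverUnip_mul (p q : CoverUnip h8 ψ) :
    p * q = ⟨p.fst + q.fst, p.snd + q.snd + p.fst * q.fst ^ 4,
      p.cen + q.cen + ψ (p.snd ^ 4 * q.fst + p.fst ^ 4 * q.snd ^ 2)⟩ := rfl

theorem coverUnip_one : (1 : CoverUnip h8 ψ) = ⟨0, 0, 0⟩ := rfl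

instance : Finite (CoverUnip h8 ψ) :=
  Finite.of_injective (fun p => (p.fst, p.snd, p.cen)) fun p q h => by
    simp only [Prod.mk.injEq] at h
    exact CoverUnip.ext h.1 h.2.1 h.2.2

omit [Fintype F] [CharP F 2] in
theorem pow_seven_of (h8 : ∀ x : F, x ^ 8 = x) (x : Fˣ) : (x : F) ^ 7 = 1 :=
  mul_left_cancel₀ x.ne_zero (by rw [← pow_succ', h8, mul_one])

/-- the torus acting on the extended unipotent group -/
def torusAct : Fˣ →* MulAut (CoverUnip h8 ψ) where
  toFun x :=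
    { toFun := fun p => ⟨(x : F) ^ 5 * p.fst, (x : F) ^ 4 * p.snd, p.cen⟩
      invFun := fun p => ⟨(x : F) ^ 2 * p.fst, (x : F) ^ 3 * p.snd, p.cen⟩
      left_inv := fun p => CoverUnip.ext
        (show (x : F) ^ 2 * ((x : F) ^ 5 * p.fst) = p.fst by
          linear_combination p.fst * pow_seven_of h8 x)
        (show (x : F) ^ 3 * ((x : F) ^ 4 * p.snd) = p.snd by
          linear_combination p.snd * pow_seven_of h8 x) rfl
      right_inv := fun p => CoverUnip.ext
        (show (x : F) ^ 5 * ((x : F) ^ 2 * p.fst) = p.fst by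
          linear_combination p.fst * pow_seven_of h8 x)
        (show (x : F) ^ 4 * ((x : F) ^ 3 * p.snd) = p.snd by
          linear_combination p.snd * pow_seven_of h8 x) rfl
      map_mul' := fun p q => by
        have hx := pow_seven_of h8 x
        apply CoverUnip.ext
        · exact mul_add _ _ _
        · show (x : F) ^ 4 * (p.snd + q.snd + p.fst * q.fst ^ 4) =
            (x : F) ^ 4 * p.snd + (x : F) ^ 4 * q.snd + (x : F) ^ 5 * p.fst * ((x : F) ^ 5 * q.fst) ^ 4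
          linear_combination (-(x : F) ^ 4 * p.fst * q.fst ^ 4 * ((x : F) ^ 14 + (x : F) ^ 7 + 1)) * hx
        · show p.cen + q.cen + ψ (p.snd ^ 4 * q.fst + p.fst ^ 4 * q.snd ^ 2) = p.cen + q.cen +
            ψ (((x : F) ^ 4 * p.snd) ^ 4 * ((x : F) ^ 5 * q.fst) +
              ((x : F) ^ 5 * p.fst) ^ 4 * ((x : F) ^ 4 * q.snd) ^ 2)
          congr 2
          linear_combination (-(p.snd ^ 4 * q.fst) * ((x : F) ^ 14 + (x : F) ^ 7 + 1) -
            p.fst ^ 4 * q.snd ^ 2 * ((x : F) ^ 21 + (x : F) ^ 14 + (x : F) ^ 7 + 1)) * hx }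
  map_one' := MulEquiv.ext fun p => CoverUnip.ext
    (show ((1 : Fˣ) : F) ^ 5 * p.fst = p.fst by simp)
    (show ((1 : Fˣ) : F) ^ 4 * p.snd = p.snd by simp) rfl
  map_mul' x y := MulEquiv.ext fun p => CoverUnip.ext
    (show ((x * y : Fˣ) : F) ^ 5 * p.fst = (x : F) ^ 5 * ((y : F) ^ 5 * p.fst) by
      rw [Units.val_mul]; ring)
    (show ((x * y : Fˣ) : F) ^ 4 * p.snd = (x : F) ^ 4 * ((y : F) ^ 4 * p.snd) by
      rw [Units.val_mul]; ring) rfl

section

variable (P : Params F (2 ^ (1 + 1))) (hF : Fintype.card F = 2 ^ (2 * 1 + 1))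

set_option quotPrecheck false
local notation "𝔾" => ↥(Sz F (2 ^ (1 + 1)))

include hF in
omit [CharP F 2] in
theorem pow_eight (x : F) : x ^ 8 = x := by
  have h := FiniteField.pow_card x
  rwa [hF] at h

include hF in
/-- An additive map onto a four-group killing `1` and invariant under `y ↦ y² + y⁴`. -/
theorem exists_coverForm : ∃ ψ : F →+ ZMod 2 × ZMod 2, Function.Surjective ψ ∧
    ∀ y, ψ (y ^ 2 + y ^ 4) = ψ y := by
  obtain ⟨ζ, h0, h1⟩ := exists_generic hF
  let c := ZMod.castHom (dvd_refl 2) F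
  let f : ZMod 2 × ZMod 2 × ZMod 2 →+ F :=
    { toFun := fun v => c v.1 + c v.2.1 * ζ + c v.2.2 * (ζ * ζ)
      map_zero' := by simp
      map_add' := fun v w => by simp only [Prod.fst_add, Prod.snd_add, map_add]; ring }
  let e := AddEquiv.ofBijective f (expand_bijective hF h0 h1)
  let ψ : F →+ ZMod 2 × ZMod 2 := (AddMonoidHom.snd _ _).comp e.symm.toAddMonoidHom
  have hsur : Function.Surjective ψ := fun v => ⟨e (0, v), by simp [ψ]⟩
  refine ⟨ψ, hsur, fun y => ?_⟩
  have h2 : (2 : F) = 0 := CharTwo.two_eq_zero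
  have hT : (y + y ^ 2 + y ^ 4) * (y + y ^ 2 + y ^ 4 + 1) = 0 := by
    linear_combination pow_eight hF y + (y + y ^ 2 + y ^ 3 + y ^ 4 + y ^ 5 + y ^ 6) * h2
  have hy : y ^ 2 + y ^ 4 = y + (y + y ^ 2 + y ^ 4) := by linear_combination (-y) * h2
  have hk : ψ (y + y ^ 2 + y ^ 4) = 0 := by
    rcases mul_eq_zero.1 hT with h | h
    · rw [h, map_zero]
    · rw [CharTwo.add_eq_zero.1 h]
      have he : e.symm (1 : F) = (1, 0, 0) :=
        e.injective (by rw [e.apply_symm_apply]; show (1 : F) = f (1, 0, 0); simp [f])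
      show (e.symm (1 : F)).2 = 0
      rw [he]
      rfl
  rw [hy, map_add, hk, add_zero]

include P in
theorem theta_pow_five (h8 : ∀ x : F, x ^ 8 = x) (x : Fˣ) :
    (x : F) * x / P.θ x = (x : F) ^ 5 := by
  rw [theta_eight P, div_eq_iff (pow_ne_zero 4 x.ne_zero)]
  linear_combination (-(x : F) ^ 2) * pow_seven_of h8 x

/-- the radical of the extended Borel subgroup -/
def coverUnipHom : CoverUnip h8 ψ →* 𝔾 where
  toFun p := uEl P p.fst p.snd
  map_one' := uEl_zero P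
  map_mul' p q := by rw [uEl_mul, theta_eight P]; rfl

/-- the torus -/
def torusHom : Fˣ →* 𝔾 where
  toFun := dEl P
  map_one' := dEl_one P
  map_mul' x y := (dEl_mul P x y).symm

/-- the extended Borel subgroup mapping onto the Borel subgroup -/
def coverHom (h8 : ∀ x : F, x ^ 8 = x) (ψ : F →+ ZMod 2 × ZMod 2) :
    CoverUnip h8 ψ ⋊[torusAct] Fˣ →* 𝔾 :=
  SemidirectProduct.lift (coverUnipHom P) (torusHom P) fun x => MonoidHom.ext fun p => by
    show uEl P ((x : F) ^ 5 * p.fst) ((x : F) ^ 4 * p.snd) =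
      dEl P x * uEl P p.fst p.snd * (dEl P x)⁻¹
    rw [dEl_conj_uEl, theta_pow_five P h8, theta_eight P]

theorem coverHom_apply (q : CoverUnip h8 ψ ⋊[torusAct] Fˣ) :
    coverHom P h8 ψ q = uEl P q.left.fst q.left.snd * dEl P q.right := rfl

theorem coverHom_range : (coverHom P h8 ψ).range = borel (F := F) (e := 2 ^ (1 + 1)) := by
  ext g
  constructor
  · rintro ⟨q, rfl⟩
    rw [coverHom_apply]
    exact mul_mem (uEl_mem_borel P _ _) (dEl_mem_borel P _)
  · intro hg
    obtain ⟨a, b, x, rfl⟩ := borel_form P hg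
    exact ⟨⟨⟨a, b, 0⟩, x⟩, coverHom_apply P _⟩

theorem mem_ker_coverHom {q : CoverUnip h8 ψ ⋊[torusAct] Fˣ} :
    q ∈ (coverHom P h8 ψ).ker ↔ q.left.fst = 0 ∧ q.left.snd = 0 ∧ q.right = 1 := by
  rw [MonoidHom.mem_ker, coverHom_apply]
  constructor
  · intro h
    have h00 := congrFun (congrFun (congrArg (mat (F := F)) h) 0) 0
    simp [Matrix.mul_apply, Fin.sum_univ_four, uMat, dMat] at h00
    have hx : q.right = 1 := Units.ext (by simpa using h00)
    rw [hx, dEl_one, mul_one, ← uEl_zero P] at h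
    exact ⟨(uEl_inj P h).1, (uEl_inj P h).2, hx⟩
  · rintro ⟨h1, h2, h3⟩
    rw [h1, h2, h3, dEl_one, uEl_zero, mul_one]

theorem ker_coverHom_central :
    (coverHom P h8 ψ).ker ≤ Subgroup.center (CoverUnip h8 ψ ⋊[torusAct] Fˣ) := by
  intro q hq
  obtain ⟨h1, h2, h3⟩ := (mem_ker_coverHom P).1 hq
  rw [Subgroup.mem_center_iff]
  intro r
  apply SemidirectProduct.ext
  · rw [SemidirectProduct.mul_left, SemidirectProduct.mul_left, h3, map_one]
    show r.left * ⟨(r.right : F) ^ 5 * q.left.fst, (r.right : F) ^ 4 * q.left.snd, q.left.cen⟩ =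
      q.left * r.left
    rw [coverUnip_mul, coverUnip_mul, h1, h2]
    ext <;> simp [add_comm]
  · simp [h3]

theorem cover_commutator (a b : F) :
    ⁅SemidirectProduct.inl (φ := torusAct) (⟨a, 0, 0⟩ : CoverUnip h8 ψ),
        SemidirectProduct.inl (φ := torusAct) (⟨0, b, 0⟩ : CoverUnip h8 ψ)⁆ =
      SemidirectProduct.inl (φ := torusAct)
        (⟨0, 0, ψ (a ^ 4 * b ^ 2 + b ^ 4 * a)⟩ : CoverUnip h8 ψ) := by
  rw [← map_commutatorElement]
  congr 1
  rw [commutatorElement_def, mul_inv_eq_iff_eq_mul, mul_inv_eq_iff_eq_mul, coverUnip_mul,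
    coverUnip_mul, coverUnip_mul]
  apply CoverUnip.ext <;> simp
  have hd : ∀ v : ZMod 2 × ZMod 2, v + v = 0 := by decide
  rw [add_assoc, hd, add_zero]

open Classical in
/-- representatives of the cosets of the Borel subgroup -/
noncomputable def cosetRep {B : Subgroup 𝔾} (hB : B = borel (F := F) (e := 2 ^ (1 + 1)))
    (ω : 𝔾 ⧸ B) : 𝔾 :=
  if h : ∃ a b : F, ω = QuotientGroup.mk (uEl P a b * jEl P) then
    uEl P h.choose h.choose_spec.choose * jEl P
  else 1

include P hF in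
/-- `Sz(8)` has a stem extension by a four-group. -/
theorem exists_stem_four :
    ∃ (Γ : Type u) (_ : Group Γ) (_ : Finite Γ) (σ : Γ →* 𝔾),
      Cfsg.IsStemExtension σ ∧ Nonempty (σ.ker ≃* Multiplicative (ZMod 2 × ZMod 2)) := by
  classical
  have h8 : ∀ x : F, x ^ 8 = x := pow_eight hF
  obtain ⟨ψ, hψs, hψ⟩ := exists_coverForm hF
  have hR := coverHom_range P (h8 := h8) (ψ := ψ)
  haveI : Finite (CoverUnip h8 ψ ⋊[torusAct] Fˣ) :=
    Finite.of_equiv _ SemidirectProduct.equivProd.symm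
  set t := cosetRep P hR with ht
  have hrep : ∀ a b, t (QuotientGroup.mk (uEl P a b * jEl P)) = uEl P a b * jEl P := by
    intro a b
    have h : ∃ a' b' : F, (QuotientGroup.mk (uEl P a b * jEl P) : 𝔾 ⧸ (coverHom P h8 ψ).range) =
        QuotientGroup.mk (uEl P a' b' * jEl P) := ⟨a, b, rfl⟩
    simp only [ht, cosetRep, dif_pos h]
    have hc := h.choose_spec.choose_spec
    obtain ⟨e1, e2⟩ := uj_unique P ((SetLike.ext_iff.1 hR _).1 (QuotientGroup.eq.1 hc)) (mul_inv_cancel_left _ _)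
    exact congrArg₂ (fun u v => uEl P u v * jEl P) e1.symm e2.symm
  have hcases : ∀ ω : 𝔾 ⧸ (coverHom P h8 ψ).range, ω ≠ QuotientGroup.mk 1 →
      ∃ a b, ω = QuotientGroup.mk (uEl P a b * jEl P) := by
    intro ω hω
    obtain ⟨g, rfl⟩ := QuotientGroup.mk_surjective ω
    obtain ⟨a, b, h, hh, rfl⟩ := bruhat P (g := g) (fun hg => hω (QuotientGroup.eq.2 (by
      rw [hR]; simpa using hg)))
    exact ⟨a, b, QuotientGroup.eq.2 (by rw [hR]; simpa [mul_assoc] using inv_mem hh)⟩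
  have ht1 : t (QuotientGroup.mk 1) = 1 := by
    have h : ¬ ∃ a b : F, (QuotientGroup.mk 1 : 𝔾 ⧸ (coverHom P h8 ψ).range) =
        QuotientGroup.mk (uEl P a b * jEl P) := by
      rintro ⟨a, b, h⟩
      rw [QuotientGroup.eq, hR, inv_one, one_mul] at h
      exact uj_notMem P a b h
    simp only [ht, cosetRep, dif_neg h]
  obtain ⟨Γ, i1, i2, σ, hσ, ⟨φ⟩⟩ := exists_stem_of_transfer (coverHom P h8 ψ)
    (ker_coverHom_central P) t
    (fun ω => by
      rcases eq_or_ne ω (QuotientGroup.mk 1) with rfl | hω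
      · rw [ht1]
      · obtain ⟨a, b, rfl⟩ := hcases ω hω
        rw [hrep])
    ht1 (unip P) (by
      rintro _ ⟨a, b, rfl⟩
      rw [hR]
      exact uEl_mem_borel P a b)
    (by
      rintro _ ⟨a', b', rfl⟩ ω hω
      obtain ⟨a, b, rfl⟩ := hcases ω hω
      rw [MulAction.Quotient.smul_mk, smul_eq_mul, ← mul_assoc, uEl_mul, hrep, hrep, ← uEl_mul]
      group)
    (by
      intro k hk
      obtain ⟨h1, h2, h3⟩ := (mem_ker_coverHom P).1 hk
      obtain ⟨b, hb⟩ := hψs k.left.cen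
      refine ⟨SemidirectProduct.inl (⟨1, 0, 0⟩ : CoverUnip h8 ψ),
        SemidirectProduct.inl (⟨0, b, 0⟩ : CoverUnip h8 ψ), ⟨1, 0, ?_⟩, ⟨0, b, ?_⟩, ?_⟩
      · show uEl P 1 0 * dEl P 1 = _
        rw [dEl_one, mul_one]
      · show uEl P 0 b * dEl P 1 = _
        rw [dEl_one, mul_one]
      · rw [cover_commutator]
        refine SemidirectProduct.ext (CoverUnip.ext h1 h2 ?_) h3
        show k.left.cen = _
        rw [← hb, ← hψ b]
        simp)
  refine ⟨Γ, i1, i2, σ, hσ, ⟨φ.trans ?_⟩⟩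
  exact
    { toFun := fun k => Multiplicative.ofAdd (k : CoverUnip h8 ψ ⋊[torusAct] Fˣ).left.cen
      invFun := fun v => ⟨⟨⟨0, 0, v.toAdd⟩, 1⟩, (mem_ker_coverHom P).2 ⟨rfl, rfl, rfl⟩⟩
      left_inv := fun k => by
        obtain ⟨h1, h2, h3⟩ := (mem_ker_coverHom P).1 k.2
        exact Subtype.ext (SemidirectProduct.ext (CoverUnip.ext h1.symm h2.symm rfl) h3.symm)
      right_inv := fun v => rfl
      map_mul' := fun k l => by
        obtain ⟨h1, h2, h3⟩ := (mem_ker_coverHom P).1 k.2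
        obtain ⟨l1, l2, -⟩ := (mem_ker_coverHom P).1 l.2
        rw [Subgroup.coe_mul, SemidirectProduct.mul_left, h3, map_one, MulAut.one_apply,
          coverUnip_mul, h1, h2, l1, l2]
        simp }

end

end CfsgLib.SuzukiEight
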