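import Cfsg.Agent.Lib.SuzukiGroup.Multiplier

/-!
# The Schur multiplier of `Sz(8)`: upper bound

In a stem extension of `Sz(8)` the commutators of lifts of `u(a,0)` and `u(0,b)` are `g(a²b)` for an
additive map `g` killing `1`; modulo its image the preimage of a Sylow 2-subgroup has derived
subgroup meeting the kernel trivially, so the image is the whole kernel.
-/

set_option autoImplicit false
set_option linter.unusedSectionVars false

open scoped MatrixGroups Matrix commutatorElement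

namespace CfsgLib.SuzukiEight

open Cfsg.Lie CfsgLib.SuzukiGroup

universe u v

variable {F : Type v} [Field F] [Fintype F] [CharP F 2] {m : ℕ}
  (P : Params F (2 ^ (m + 1))) (hF : Fintype.card F = 2 ^ (2 * m + 1))

set_option quotPrecheck false
local notation "𝔾" => ↥(Sz F (2 ^ (m + 1)))

include P hF in
/-- The preimage of the Sylow 2-subgroup has derived subgroup meeting the kernel trivially. -/
theorem derived_inf_ker_of_mixed (hm : 1 ≤ m) {Γ : Type u} [Group Γ] {σ : Γ →* 𝔾}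
    (hsur : Function.Surjective σ) (hc : σ.ker ≤ Subgroup.center Γ) {Q : Subgroup Γ}
    (hQ : Q.map σ ≤ unip P) {z : Γ} (hz : z ∈ σ.ker) (hzQ : z ∈ ⁅Q, Q⁆) (hz2 : z ^ 2 = 1)
    (hmix : ∀ g h a b, σ g = uEl P a 0 → σ h = uEl P 0 b → Commute g h) :
    z = 1 := by
  classical
  obtain ⟨r, hr⟩ := hsur.hasRightInverse
  open CfsgLib.Schur in
  have hcongr : ∀ {x x' y y' : Γ}, σ x = σ x' → σ y = σ y' → ⁅x, y⁆ = ⁅x', y'⁆ :=
    fun hx hy => commutator_congr hc hx hy
  let ua : F → Γ := fun a => r (uEl P a 0)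
  let ub : F → Γ := fun b => r (uEl P 0 b)
  let t : Fˣ → Γ := fun x => r (dEl P x)
  have hua : ∀ a, σ (ua a) = uEl P a 0 := fun a => hr _
  have hub : ∀ b, σ (ub b) = uEl P 0 b := fun b => hr _
  have ht : ∀ x, σ (t x) = dEl P x := fun x => hr _
  let Zc := Subgroup.center Γ
  letI : CommGroup ↥Zc :=
    { (inferInstance : Group ↥Zc) with
      mul_comm := fun a b => Subtype.ext ((Subgroup.mem_center_iff.mp b.2 a)) }
  have hcomm1 : ∀ {g h : Γ}, Commute (σ g) (σ h) → ⁅g, h⁆ ∈ Zc := fun {g h} hgh => hc (by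
    rw [MonoidHom.mem_ker, map_commutatorElement, commutatorElement_eq_one_iff_commute]
    exact hgh)
  have hcen : ∀ {g : Γ}, g ∈ Zc → ∀ y : Γ, Commute y g := fun hg y => Subgroup.mem_center_iff.1 hg y
  have hconj : ∀ (w x y : Γ), ⁅w * x * w⁻¹, w * y * w⁻¹⁆ = w * ⁅x, y⁆ * w⁻¹ := fun w x y => by
    simp only [commutatorElement_def]; group
  have hcent_conj : ∀ {g : Γ}, g ∈ Zc → ∀ w : Γ, w * g * w⁻¹ = g := fun hg w => by
    rw [(hcen hg w).eq, mul_inv_cancel_right]
  -- the commutator maps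
  have hbb : ∀ a b, ⁅ub a, ub b⁆ ∈ Zc := fun a b => hcomm1 (by
    rw [hub, hub]; exact (uEl_comm_iff P 0 a 0 b).2 (by simp))
  have hab : ∀ a b, ⁅ua a, ub b⁆ ∈ Zc := fun a b => hcomm1 (by
    rw [hua, hub]; exact (uEl_comm_iff P a 0 0 b).2 (by simp))
  have hadd_b : ∀ b b', σ (ub (b + b')) = σ (ub b * ub b') := fun b b' => by
    rw [map_mul, hub, hub, hub, uEl_mul]; simp
  have hB1 : ∀ a b, ⁅ub a, ub b⁆ = 1 := by
    intro a b
    have := biadd_eq_one_of_scale (A := ↥Zc) (exists_scale_param hF (by omega))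
      (B := fun a b => ⟨⁅ub a, ub b⁆, hbb a b⟩)
      (fun a a' b => Subtype.ext (by
        show ⁅ub (a + a'), ub b⁆ = ⁅ub a, ub b⁆ * ⁅ub a', ub b⁆
        rw [hcongr (hadd_b a a') rfl, comm_mul_left (hcen (hbb a' b) _)]
        exact (hcen (hbb a' b) _).eq.symm))
      (fun a b b' => Subtype.ext (by
        show ⁅ub a, ub (b + b')⁆ = ⁅ub a, ub b⁆ * ⁅ub a, ub b'⁆
        rw [hcongr rfl (hadd_b b b'), comm_mul_right (hcen (hbb a b') _)]))
      (fun k a b hk => Subtype.ext (by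
        show ⁅ub (k * a), ub (k * b)⁆ = ⁅ub a, ub b⁆
        obtain ⟨x, hx⟩ := (theta_bijective P).2 k
        have hx0 : x ≠ 0 := fun e => hk (by rw [← hx, e, map_zero])
        have e : ∀ c, σ (ub (k * c)) = σ (t (Units.mk0 x hx0) * ub c * (t (Units.mk0 x hx0))⁻¹) := by
          intro c
          rw [map_mul, map_mul, map_inv, ht, hub, hub, dEl_conj_uEl, mul_zero, Units.val_mk0, hx]
        rw [hcongr (e a) (e b), hconj, hcent_conj (hbb a b)]))
      a b
    exact congrArg Subtype.val this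
  let InW : Γ → Prop := fun g => ∃ b, σ g = uEl P 0 b
  have hWW : ∀ g h, InW g → InW h → Commute g h := by
    rintro g h ⟨a, ha⟩ ⟨b, hb⟩
    rw [← commutatorElement_eq_one_iff_commute,
      hcongr (ha.trans (hub a).symm) (hb.trans (hub b).symm), hB1]
  have hwa : ∀ a a', InW ((ua a * ua a')⁻¹ * ua (a + a')) := fun a a' => by
    refine ⟨a * P.θ a', ?_⟩
    rw [map_mul, map_inv, map_mul, hua, hua, hua, inv_mul_eq_iff_eq_mul, uEl_mul, uEl_mul]
    congr 1
    · simp
    · simp [CharTwo.add_self_eq_zero]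
  have hB2 : ∀ a b, ⁅ua a, ub b⁆ = 1 := fun a b =>
    commutatorElement_eq_one_iff_commute.2 (hmix _ _ a b (hua a) (hub b))
  have hVW : ∀ g h, σ g ∈ unip P → InW h → Commute g h := by
    rintro g h ⟨a, c, hg⟩ ⟨b, hb⟩
    rw [← commutatorElement_eq_one_iff_commute,
      hcongr (show σ g = σ (ua a * ub c) by rw [hg, map_mul, hua, hub, uEl_mul]; simp)
        (hb.trans (hub b).symm),
      comm_mul_left (by rw [hB1]; exact Commute.one_right _), hB1, hB2, mul_one]
  have hVa : ∀ a, σ (ua a) ∈ unip P := fun a => ⟨a, 0, hua a⟩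
  have hC : ∀ g h a c b d, σ g = uEl P a b → σ h = uEl P c d → ⁅g, h⁆ = ⁅ua a, ua c⁆ := by
    have key : ∀ g h a b, σ g = uEl P a b → σ h ∈ unip P → ⁅g, h⁆ = ⁅ua a, h⁆ := by
      intro g h a b hg hh
      obtain ⟨w, hw, rfl⟩ : ∃ w, InW w ∧ g = ua a * w := by
        refine ⟨(ua a)⁻¹ * g, ⟨b, ?_⟩, by group⟩
        rw [map_mul, map_inv, hua, hg, inv_mul_eq_iff_eq_mul, uEl_mul]
        simp
      have hwh : ⁅w, h⁆ = 1 := commutatorElement_eq_one_iff_commute.2 (hVW h w hh hw).symm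
      rw [comm_mul_left (by rw [hwh]; exact Commute.one_right _), hwh, one_mul]
    intro g h a c b d hg hh
    rw [key g h a b hg ⟨c, d, hh⟩, ← commutatorElement_inv, key h (ua a) c d hh (hVa a),
      commutatorElement_inv]
  have hCW : ∀ a c, InW ⁅ua a, ua c⁆ := fun a c => by
    refine ⟨c * P.θ a + a * P.θ c, ?_⟩
    rw [map_commutatorElement, hua, hua, commutatorElement_def, uEl_inv, uEl_inv, uEl_mul, uEl_mul,
      uEl_mul]
    congr 1
    · simp [add_assoc, add_left_comm, CharTwo.add_self_eq_zero]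
    · grind
  -- the subgroup `W`
  let zU : Subgroup 𝔾 :=
    { carrier := {g | ∃ b, g = uEl P 0 b}
      mul_mem' := by rintro _ _ ⟨b, rfl⟩ ⟨c, rfl⟩; exact ⟨b + c, by rw [uEl_mul]; simp⟩
      one_mem' := ⟨0, (uEl_zero P).symm⟩
      inv_mem' := by rintro _ ⟨b, rfl⟩; exact ⟨b, by rw [uEl_inv]; simp⟩ }
  let W : Subgroup Γ := zU.comap σ
  have hmemW : ∀ g, g ∈ W ↔ InW g := fun g => Iff.rfl
  letI : CommGroup ↥W :=
    { (inferInstance : Group ↥W) with
      mul_comm := fun a b => Subtype.ext (hWW a b a.2 b.2).eq }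
  have htW : ∀ x : Fˣ, ∀ g ∈ W, t x * g * (t x)⁻¹ ∈ W := by
    rintro x g ⟨b, hb⟩
    exact ⟨P.θ x * b, by rw [map_mul, map_mul, map_inv, ht, hb, dEl_conj_uEl, mul_zero]⟩
  let N : ↥W →* ↥W :=
    { toFun := fun g => ∏ x : Fˣ, ⟨t x * g * (t x)⁻¹, htW x g g.2⟩
      map_one' := Finset.prod_eq_one fun x _ => Subtype.ext (by simp)
      map_mul' := fun g h => by
        rw [← Finset.prod_mul_distrib]
        exact Finset.prod_congr rfl fun x _ => Subtype.ext (by
          show t x * ((g : Γ) * h) * (t x)⁻¹ = t x * g * (t x)⁻¹ * (t x * h * (t x)⁻¹)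
          group) }
  let B3 : F → F → ↥W := fun a c => ∏ x : Fˣ, ⟨⁅ua ((x : F) * x / P.θ x * a),
    ua ((x : F) * x / P.θ x * c)⁆, hCW _ _⟩
  have hNC : ∀ a c, N ⟨⁅ua a, ua c⁆, hCW a c⟩ = B3 a c := by
    intro a c
    refine Finset.prod_congr rfl fun x _ => Subtype.ext ?_
    show t x * ⁅ua a, ua c⁆ * (t x)⁻¹ = _
    rw [← hconj]
    refine (hC _ _ _ _ (P.θ x * 0) (P.θ x * 0) ?_ ?_) <;>
      rw [map_mul, map_mul, map_inv, ht, hua, dEl_conj_uEl]
  have hCl : ∀ a a' c, ⁅ua (a + a'), ua c⁆ = ⁅ua a, ua c⁆ * ⁅ua a', ua c⁆ := fun a a' c => by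
    have hcW : Commute (ua a) ⁅ua a', ua c⁆ := hVW _ _ (hVa a) (hCW a' c)
    rw [← hC (ua a * ua a') (ua c) (a + a') c (a * P.θ a') 0 (by rw [map_mul, hua, hua, uEl_mul]; simp)
      (hua c), comm_mul_left hcW]
    exact (hWW _ _ (hCW a' c) (hCW a c)).eq
  have hCr : ∀ a c c', ⁅ua a, ua (c + c')⁆ = ⁅ua a, ua c⁆ * ⁅ua a, ua c'⁆ := fun a c c' => by
    rw [← hC (ua a) (ua c * ua c') a (c + c') 0 (c * P.θ c') (hua a)
      (by rw [map_mul, hua, hua, uEl_mul]; simp), comm_mul_right (hVW _ _ (hVa c) (hCW a c'))]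
  have hB3 : ∀ a c, B3 a c = 1 := fun a c => by
    refine biadd_eq_one_of_scale (exists_scale_param hF (by omega)) (B := B3) ?_ ?_ ?_ a c
    · intro a a' c
      simp only [B3, ← Finset.prod_mul_distrib, mul_add]
      exact Finset.prod_congr rfl fun x _ => Subtype.ext (hCl _ _ _)
    · intro a c c'
      simp only [B3, ← Finset.prod_mul_distrib, mul_add]
      exact Finset.prod_congr rfl fun x _ => Subtype.ext (hCr _ _ _)
    · intro k a c hk
      obtain ⟨y, hy⟩ := exists_scale' P hk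
      refine Fintype.prod_equiv (Equiv.mulRight y) _ _ fun x => Subtype.ext ?_
      have e : ∀ u : F, (x : F) * x / P.θ x * (k * u) =
          ((x * y : Fˣ) : F) * (x * y : Fˣ) / P.θ ((x * y : Fˣ) : F) * u := fun u => by
        rw [← hy, Units.val_mul, map_mul]
        ring
      show ⁅ua _, ua _⁆ = ⁅ua _, ua _⁆
      rw [e a, e c]
      rfl
  have hle : ⁅Q, Q⁆ ≤ N.ker.map W.subtype := by
    rw [Subgroup.commutator_le]
    intro g hg h hh
    obtain ⟨a, b, ha⟩ := hQ (Subgroup.mem_map_of_mem σ hg)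
    obtain ⟨c, d, hcd⟩ := hQ (Subgroup.mem_map_of_mem σ hh)
    refine ⟨⟨⁅ua a, ua c⁆, hCW a c⟩, ?_, (hC g h a c b d ha hcd).symm⟩
    rw [SetLike.mem_coe, MonoidHom.mem_ker, hNC, hB3]
  obtain ⟨w, hwk, hwz⟩ := hle hzQ
  have hNz : N w = w ^ Fintype.card Fˣ := by
    show (∏ x : Fˣ, (⟨t x * w * (t x)⁻¹, htW x w w.2⟩ : ↥W)) = _
    rw [Finset.prod_congr rfl (g := fun _ => w) fun x _ => Subtype.ext (by
      show t x * (w : Γ) * (t x)⁻¹ = w
      exact hcent_conj (hc (show (w : Γ) ∈ σ.ker by rwa [show (w : Γ) = z from hwz])) _), Finset.prod_const, Finset.card_univ]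
  have h1 : z ^ Fintype.card Fˣ = 1 := by
    rw [← hwz, ← map_pow, ← hNz, MonoidHom.mem_ker.1 hwk, map_one]
  obtain ⟨j, hj⟩ : Odd (Fintype.card Fˣ) := by
    rw [Fintype.card_units]
    exact odd_q_sub_one hF (by omega)
  rwa [hj, pow_succ, pow_mul, hz2, one_pow, one_mul] at h1

end CfsgLib.SuzukiEight

namespace CfsgLib.SuzukiEight

open Cfsg.Lie CfsgLib.SuzukiGroup

universe u

variable {F : Type u} [Field F] [Fintype F] [CharP F 2]
  (P : Params F (2 ^ (1 + 1))) (hF : Fintype.card F = 2 ^ (2 * 1 + 1))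

set_option quotPrecheck false
local notation "𝔾" => ↥(Sz F (2 ^ (1 + 1)))

omit [Fintype F] [CharP F 2] in
theorem theta_eight (x : F) : P.θ x = x ^ 4 := by rw [P.pow_eq]; norm_num

include hF in
omit [CharP F 2] in
theorem pow_seven {x : F} (hx : x ≠ 0) : x ^ 7 = 1 := by
  have h := FiniteField.pow_card_sub_one_eq_one x hx
  rwa [hF] at h

include hF in
omit [CharP F 2] in
theorem exists_generic : ∃ ζ : F, ζ ≠ 0 ∧ ζ ≠ 1 := by
  classical
  by_contra h
  push Not at h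
  have hsub : (Finset.univ : Finset F) ⊆ {0, 1} := fun x _ => by
    rcases eq_or_ne x 0 with e | e
    · simp [e]
    · simp [h x e]
  have h2 := (Finset.card_le_card hsub).trans Finset.card_le_two
  rw [Finset.card_univ, hF] at h2
  norm_num at h2

include hF in
/-- `(i, j, k) ↦ i + j ζ + k ζ²` lists the field. -/
theorem expand_bijective {ζ : F} (h0 : ζ ≠ 0) (h1 : ζ ≠ 1) :
    Function.Bijective (fun v : ZMod 2 × ZMod 2 × ZMod 2 =>
      ZMod.castHom (dvd_refl 2) F v.1 + ZMod.castHom (dvd_refl 2) F v.2.1 * ζ +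
        ZMod.castHom (dvd_refl 2) F v.2.2 * (ζ * ζ)) := by
  let c := ZMod.castHom (dvd_refl 2) F
  let f : ZMod 2 × ZMod 2 × ZMod 2 →+ F :=
    { toFun := fun v => c v.1 + c v.2.1 * ζ + c v.2.2 * (ζ * ζ)
      map_zero' := by simp
      map_add' := fun v w => by simp only [Prod.fst_add, Prod.snd_add, map_add]; ring }
  have h7 := pow_seven hF h0
  have hne : ζ + 1 ≠ 0 := fun h => h1 (CharTwo.add_eq_zero.1 h)
  have hq : ζ * ζ + ζ + 1 ≠ 0 := fun h => h1 (by
    linear_combination h7 - (ζ ^ 5 - ζ ^ 4 + ζ ^ 2 - ζ) * h)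
  have hinj : Function.Injective f := by
    rw [injective_iff_map_eq_zero]
    rintro ⟨i, j, k⟩ h
    change c i + c j * ζ + c k * (ζ * ζ) = 0 at h
    have hz : ∀ i : ZMod 2, i = 0 ∨ i = 1 := by decide
    rcases hz i with rfl | rfl <;> rcases hz j with rfl | rfl <;> rcases hz k with rfl | rfl <;>
      simp only [map_zero, map_one, zero_mul, one_mul, add_zero, zero_add] at h
    · rfl
    · exact absurd h (mul_ne_zero h0 h0)
    · exact absurd h h0
    · exact absurd (show ζ * (ζ + 1) = 0 by linear_combination h) (mul_ne_zero h0 hne)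
    · exact absurd h one_ne_zero
    · exact absurd (show (ζ + 1) * (ζ + 1) = 0 by
        linear_combination h + ζ * (CharTwo.add_self_eq_zero (1 : F))) (mul_ne_zero hne hne)
    · exact absurd (show ζ + 1 = 0 by linear_combination h) hne
    · exact absurd (show ζ * ζ + ζ + 1 = 0 by linear_combination h) hq
  refine (Fintype.bijective_iff_injective_and_card _).2 ⟨hinj, ?_⟩
  simp [hF]

include P hF in
/-- The commutators of lifts of `u(a,0)` and `u(0,b)`. -/
theorem exists_mixed_form {Γ : Type u} [Group Γ] {σ : Γ →* 𝔾} (hsur : Function.Surjective σ)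
    (hc : σ.ker ≤ Subgroup.center Γ) :
    ∃ g : F → Γ, (∀ b, g b ∈ σ.ker) ∧ (∀ b c, g (b + c) = g b * g c) ∧ g 1 = 1 ∧
      ∀ x y a b, σ x = uEl P a 0 → σ y = uEl P 0 b → ⁅x, y⁆ = g (a * a * b) := by
  classical
  obtain ⟨r, hr⟩ := hsur.hasRightInverse
  have hcongr : ∀ {x x' y y' : Γ}, σ x = σ x' → σ y = σ y' → ⁅x, y⁆ = ⁅x', y'⁆ :=
    fun hx hy => CfsgLib.Schur.commutator_congr hc hx hy
  let ua : F → Γ := fun a => r (uEl P a 0)
  let ub : F → Γ := fun b => r (uEl P 0 b)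
  let t : Fˣ → Γ := fun x => r (dEl P x)
  have hua : ∀ a, σ (ua a) = uEl P a 0 := fun a => hr _
  have hub : ∀ b, σ (ub b) = uEl P 0 b := fun b => hr _
  have ht : ∀ x, σ (t x) = dEl P x := fun x => hr _
  let Zc := Subgroup.center Γ
  letI : CommGroup ↥Zc :=
    { (inferInstance : Group ↥Zc) with
      mul_comm := fun a b => Subtype.ext ((Subgroup.mem_center_iff.mp b.2 a)) }
  have hker1 : ∀ {g h : Γ}, Commute (σ g) (σ h) → ⁅g, h⁆ ∈ σ.ker := fun {g h} hgh => by
    rw [MonoidHom.mem_ker, map_commutatorElement, commutatorElement_eq_one_iff_commute]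
    exact hgh
  have hcen : ∀ {g : Γ}, g ∈ Zc → ∀ y : Γ, Commute y g := fun hg y => Subgroup.mem_center_iff.1 hg y
  have hconj : ∀ (w x y : Γ), ⁅w * x * w⁻¹, w * y * w⁻¹⁆ = w * ⁅x, y⁆ * w⁻¹ := fun w x y => by
    simp only [commutatorElement_def]; group
  have hcent_conj : ∀ {g : Γ}, g ∈ Zc → ∀ w : Γ, w * g * w⁻¹ = g := fun hg w => by
    rw [(hcen hg w).eq, mul_inv_cancel_right]
  have hbb : ∀ a b, ⁅ub a, ub b⁆ ∈ Zc := fun a b => hc (hker1 (by
    rw [hub, hub]; exact (uEl_comm_iff P 0 a 0 b).2 (by simp)))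
  have habk : ∀ a b, ⁅ua a, ub b⁆ ∈ σ.ker := fun a b => hker1 (by
    rw [hua, hub]; exact (uEl_comm_iff P a 0 0 b).2 (by simp))
  have hab : ∀ a b, ⁅ua a, ub b⁆ ∈ Zc := fun a b => hc (habk a b)
  have hadd_b : ∀ b b', σ (ub (b + b')) = σ (ub b * ub b') := fun b b' => by
    rw [map_mul, hub, hub, hub, uEl_mul]; simp
  have hB1 : ∀ a b, ⁅ub a, ub b⁆ = 1 := by
    intro a b
    have := biadd_eq_one_of_scale (A := ↥Zc) (exists_scale_param hF (le_refl 1))
      (B := fun a b => ⟨⁅ub a, ub b⁆, hbb a b⟩)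
      (fun a a' b => Subtype.ext (by
        show ⁅ub (a + a'), ub b⁆ = ⁅ub a, ub b⁆ * ⁅ub a', ub b⁆
        rw [hcongr (hadd_b a a') rfl, comm_mul_left (hcen (hbb a' b) _)]
        exact (hcen (hbb a' b) _).eq.symm))
      (fun a b b' => Subtype.ext (by
        show ⁅ub a, ub (b + b')⁆ = ⁅ub a, ub b⁆ * ⁅ub a, ub b'⁆
        rw [hcongr rfl (hadd_b b b'), comm_mul_right (hcen (hbb a b') _)]))
      (fun k a b hk => Subtype.ext (by
        show ⁅ub (k * a), ub (k * b)⁆ = ⁅ub a, ub b⁆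
        obtain ⟨x, hx⟩ := (theta_bijective P).2 k
        have hx0 : x ≠ 0 := fun e => hk (by rw [← hx, e, map_zero])
        have e : ∀ c, σ (ub (k * c)) = σ (t (Units.mk0 x hx0) * ub c * (t (Units.mk0 x hx0))⁻¹) := by
          intro c
          rw [map_mul, map_mul, map_inv, ht, hub, hub, dEl_conj_uEl, mul_zero, Units.val_mk0, hx]
        rw [hcongr (e a) (e b), hconj, hcent_conj (hbb a b)]))
      a b
    exact congrArg Subtype.val this
  have hl : ∀ a a' b, ⁅ua (a + a'), ub b⁆ = ⁅ua a, ub b⁆ * ⁅ua a', ub b⁆ := by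
    intro a a' b
    rw [hcongr (show σ (ua (a + a')) = σ (ua a * ua a' * ub (a * P.θ a')) by
      rw [map_mul, map_mul, hua, hua, hua, hub, uEl_mul, uEl_mul]
      simp [CharTwo.add_self_eq_zero]) rfl,
      comm_mul_left (by rw [hB1]; exact Commute.one_right _), hB1, one_mul,
      comm_mul_left (hcen (hab a' b) _)]
    exact (hcen (hab a' b) _).eq.symm
  have hrr : ∀ a b b', ⁅ua a, ub (b + b')⁆ = ⁅ua a, ub b⁆ * ⁅ua a, ub b'⁆ := fun a b b' => by
    rw [hcongr rfl (hadd_b b b'), comm_mul_right (hcen (hab a b') _)]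
  have hinv : ∀ k a b, k ≠ 0 → ⁅ua (k * a), ub (k * P.θ k * b)⁆ = ⁅ua a, ub b⁆ := by
    intro k a b hk
    obtain ⟨x, hx⟩ := exists_scale' P hk
    have hθ : P.θ (x : F) = k * P.θ k := by rw [theta_eq_scale P x.ne_zero, hx]
    have e1 : σ (ua (k * a)) = σ (t x * ua a * (t x)⁻¹) := by
      rw [map_mul, map_mul, map_inv, ht, hua, hua, dEl_conj_uEl, mul_zero, hx]
    have e2 : σ (ub (k * P.θ k * b)) = σ (t x * ub b * (t x)⁻¹) := by
      rw [map_mul, map_mul, map_inv, ht, hub, hub, dEl_conj_uEl, mul_zero, hθ]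
    rw [hcongr e1 e2, hconj, hcent_conj (hab a b)]
  refine ⟨fun b => ⁅ua 1, ub b⁆, fun b => habk 1 b, hrr 1, ?_, ?_⟩
  · show ⁅ua 1, ub 1⁆ = 1
    rw [hcongr rfl (show σ (ub 1) = σ (ua 1 * ua 1) by
      rw [map_mul, hua, hub, uEl_mul]; simp [CharTwo.add_self_eq_zero])]
    exact commutatorElement_eq_one_iff_commute.2 ((Commute.refl _).mul_right (Commute.refl _))
  · intro x y a b hx hy
    show ⁅x, y⁆ = ⁅ua 1, ub (a * a * b)⁆
    rw [hcongr (hx.trans (hua a).symm) (hy.trans (hub b).symm)]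
    rcases eq_or_ne a 0 with rfl | ha
    · have h0 : ua 0 ∈ σ.ker := by rw [MonoidHom.mem_ker, hua, uEl_zero]
      have h0' : ub 0 ∈ σ.ker := by rw [MonoidHom.mem_ker, hub, uEl_zero]
      rw [mul_zero, zero_mul, commutatorElement_eq_one_iff_commute.2 (hcen (hc h0) (ub b)).symm,
        commutatorElement_eq_one_iff_commute.2 (hcen (hc h0') (ua 1))]
    · have hk : a * P.θ a * (a * a * b) = b := by
        rw [theta_eight P]
        linear_combination b * pow_seven hF ha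
      conv_lhs => rw [← hk, show a = a * 1 from (mul_one a).symm]
      rw [mul_one]
      nth_rewrite 1 [← mul_one a]
      exact hinv a 1 (a * a * b) ha

include P hF in
/-- The kernel of a finite stem extension of `Sz(8)` is an image of a four-group. -/
theorem kernel_image {Γ : Type u} [Group Γ] [Finite Γ] (σ : Γ →* 𝔾)
    (hσ : Cfsg.IsStemExtension σ) :
    ∃ π : Multiplicative (ZMod 2 × ZMod 2) →* σ.ker, Function.Surjective π := by
  classical
  obtain ⟨ζ, hζ0, hζ1⟩ := exists_generic hF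
  obtain ⟨g, hgk, hgadd, hg1, hgc⟩ := exists_mixed_form P hF hσ.1 hσ.2.1
  have hg0 : g 0 = 1 := by
    have h := hgadd 0 0
    rw [add_zero] at h
    exact mul_eq_left.1 h.symm
  let G' : Multiplicative F →* Γ :=
    { toFun := fun b => g b.toAdd, map_one' := hg0, map_mul' := fun b c => hgadd _ _ }
  let c := ZMod.castHom (dvd_refl 2) F
  let s : ZMod 2 × ZMod 2 →+ F :=
    { toFun := fun v => c v.1 * ζ + c v.2 * (ζ * ζ)
      map_zero' := by simp
      map_add' := fun v w => by simp only [Prod.fst_add, Prod.snd_add, map_add]; ring }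
  have hgs : ∀ b, ∃ v, g b = g (s v) := by
    intro b
    obtain ⟨⟨i, v⟩, rfl⟩ := (expand_bijective hF hζ0 hζ1).2 b
    refine ⟨v, ?_⟩
    show g (c i + c v.1 * ζ + c v.2 * (ζ * ζ)) = g (c v.1 * ζ + c v.2 * (ζ * ζ))
    rw [add_assoc, hgadd]
    have hi : g (c i) = 1 := by
      have hz : ∀ i : ZMod 2, i = 0 ∨ i = 1 := by decide
      rcases hz i with rfl | rfl
      · rw [map_zero, hg0]
      · rw [map_one, hg1]
    rw [hi, one_mul]
  let W : Subgroup Γ := G'.range
  have hWk : W ≤ σ.ker := by rintro _ ⟨b, rfl⟩; exact hgk _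
  haveI : W.Normal := ⟨fun w hw x => by
    rw [Subgroup.mem_center_iff.1 (hσ.2.1 (hWk hw)) x, mul_inv_cancel_right]; exact hw⟩
  let τ : Γ ⧸ W →* 𝔾 := QuotientGroup.lift W σ hWk
  have hτmk : ∀ x, τ (QuotientGroup.mk' W x) = σ x := fun x => rfl
  have hτs : Function.Surjective τ := fun y => by
    obtain ⟨x, rfl⟩ := hσ.1 y
    exact ⟨QuotientGroup.mk' W x, hτmk x⟩
  have hτc : τ.ker ≤ Subgroup.center (Γ ⧸ W) := by
    intro z hz
    obtain ⟨x, rfl⟩ := QuotientGroup.mk'_surjective W z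
    rw [Subgroup.mem_center_iff]
    intro w
    obtain ⟨y, rfl⟩ := QuotientGroup.mk'_surjective W w
    rw [← map_mul, ← map_mul, Subgroup.mem_center_iff.1 (hσ.2.1 hz) y]
  have hτd : τ.ker ≤ commutator (Γ ⧸ W) := by
    intro z hz
    obtain ⟨x, rfl⟩ := QuotientGroup.mk'_surjective W z
    have hle : (commutator Γ).map (QuotientGroup.mk' W) ≤ commutator (Γ ⧸ W) := by
      rw [commutator_def, Subgroup.map_commutator]
      exact Subgroup.commutator_mono le_top le_top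
    exact hle (Subgroup.mem_map_of_mem _ (hσ.2.2 hz))
  have hmix : ∀ x y a b, τ x = uEl P a 0 → τ y = uEl P 0 b → Commute x y := by
    intro x y a b hx hy
    obtain ⟨x, rfl⟩ := QuotientGroup.mk'_surjective W x
    obtain ⟨y, rfl⟩ := QuotientGroup.mk'_surjective W y
    rw [← commutatorElement_eq_one_iff_commute, ← map_commutatorElement, hgc x y a b hx hy]
    exact (QuotientGroup.eq_one_iff _).2 ⟨Multiplicative.ofAdd (a * a * b), rfl⟩
  have hbot : τ.ker = ⊥ := by
    by_contra hne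
    obtain ⟨p, hp, hdvd⟩ := Nat.exists_prime_and_dvd
      (n := Nat.card τ.ker) (fun h1 => hne (Subgroup.eq_bot_of_card_eq _ h1))
    haveI : Fact p.Prime := ⟨hp⟩
    obtain ⟨z, hz⟩ := exists_prime_orderOf_dvd_card' p hdvd
    have hzp : (z : Γ ⧸ W) ^ p = 1 := by
      rw [← SubmonoidClass.coe_pow, ← hz, pow_orderOf_eq_one]; rfl
    have hz1 : (z : Γ ⧸ W) = 1 := by
      rcases eq_or_ne p 2 with rfl | hp2
      · obtain ⟨Q, hQ⟩ := CfsgLib.Schur.exists_sylow_map_eq hτs (sylowTwo P)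
        exact derived_inf_ker_of_mixed P hF (le_refl 1) hτs hτc (Q := Q)
          (by rw [hQ, coe_sylowTwo]) z.2
          (CfsgLib.Schur.center_commutator_sylow Q (hτc z.2) (hτd z.2)
            (CfsgLib.Schur.center_mem_sylow Q (hτc z.2) hzp)) hzp hmix
      · obtain ⟨S⟩ : Nonempty (Sylow p 𝔾) := inferInstance
        exact CfsgLib.Schur.noMultiplierAt_of_cyclic S (sylow_odd_cyclic P hF (le_refl 1) hp2 S)
          (Γ ⧸ W) τ ⟨hτs, hτc, hτd⟩ z z.2 hzp
    rw [show z = 1 from Subtype.ext hz1, orderOf_one] at hz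
    exact hp.one_lt.ne' hz.symm
  refine ⟨(G'.comp s.toMultiplicative).codRestrict σ.ker (fun v => hgk _), fun z => ?_⟩
  have hz : QuotientGroup.mk' W (z : Γ) ∈ τ.ker := MonoidHom.mem_ker.2 ((hτmk _).trans z.2)
  rw [hbot, Subgroup.mem_bot] at hz
  obtain ⟨b, hb⟩ := (QuotientGroup.eq_one_iff _).1 hz
  obtain ⟨v, hv⟩ := hgs b.toAdd
  exact ⟨Multiplicative.ofAdd v, Subtype.ext (hv.symm.trans hb)⟩

end CfsgLib.SuzukiEight
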